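import Cfsg.Agent.Lib.CharsMore.BSWRecog.PSL
import Cfsg.Agent.Lib.Involutions.DihedralClasses
import Cfsg.Agent.Lib.Small.DihedralSylow
import Cfsg.Agent.Lib.Transfer.Alperin
import Cfsg.Agent.Lib.Base.Transport

/-!
# The Brauer–Suzuki–Wall configuration in a simple group with dihedral Sylow 2-subgroups
-/

set_option autoImplicit false
set_option linter.style.haveILetI false
set_option linter.unusedSectionVars false

open scoped Classical

namespace CfsgLib.CharsMore.BSWRecog

open Subgroup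

variable {G : Type*} [Group G] [Finite G]

/-- One class of involutions. -/
theorem isConj_of_dihedral [IsSimpleGroup G] (hG : ¬ IsMulCommutative G) {P : Sylow 2 G}
    (d : CfsgLib.Involutions.DP (P : Subgroup G)) {u v : G} (hu : orderOf u = 2) (hv : orderOf v = 2) :
    IsConj u v := by
  have hT : ∀ i, ¬ d.F2 i := fun i hF => by
    obtain ⟨H, hH⟩ := d.exists_index_two hF
    rcases (Subgroup.normal_of_index_eq_two hH).eq_bot_or_eq_top with e | e
    · rw [e, Subgroup.index_bot] at hH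
      haveI : Fact (Nat.Prime 2) := ⟨Nat.prime_two⟩
      haveI := isCyclic_of_prime_card hH
      exact hG IsCyclic.isMulCommutative
    · rw [e, Subgroup.index_top] at hH; omega
  exact (d.isConj_z hT hu).symm.trans (d.isConj_z hT hv)

/-- The centralizer of a central involution of a dihedral Sylow subgroup has a normal
`2`-complement. -/
theorem sup_oddCore_centralizer (P : Sylow 2 G) {n : ℕ} (hn : n ≠ 0)
    (e : (P : Subgroup G) ≃* DihedralGroup n) {t : G} (ht : orderOf t = 2) (htP : t ∈ (P : Subgroup G))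
    (htZ : ∀ s ∈ (P : Subgroup G), s * t = t * s) :
    (P : Subgroup G) ⊔ (Cfsg.oddCore (centralizer ({t} : Set G))).map
      (centralizer ({t} : Set G)).subtype = centralizer ({t} : Set G) := by
  haveI : Fact (Nat.Prime 2) := ⟨Nat.prime_two⟩
  let L := centralizer ({t} : Set G)
  have hPL : (P : Subgroup G) ≤ L := fun s hs => mem_centralizer_singleton_iff.2 (htZ s hs)
  let P' : Sylow 2 L := P.subtype hPL
  let t' : L := ⟨t, hPL htP⟩
  have ht' : orderOf t' = 2 := by rw [Subgroup.orderOf_mk, ht]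
  have hP' : Cfsg.HasNormalPComplement 2 L := by
    refine (CfsgLib.Transfer.hasNormalPComplement_iff_forall_centralizing P').2 fun Q hQ g hg hg2 => ?_
    have hgt : ∀ l : L, Commute l t' := fun l => Subtype.ext (mem_centralizer_singleton_iff.1 l.2)
    let R := Q ⊔ zpowers t'
    have hRP : R ≤ (P' : Subgroup L) := sup_le hQ (zpowers_le.2 (show t ∈ (P : Subgroup G) from htP))
    have hgR : g ∈ normalizer (R : Set L) := by
      refine normalizer_inf_normalizer_le_normalizer_sup Q (zpowers t') ⟨hg, ?_⟩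
      refine centralizer_le_normalizer _ ?_
      exact mem_centralizer_iff.2 fun w hw => by
        obtain ⟨i, rfl⟩ := Subgroup.mem_zpowers_iff.1 hw
        exact ((hgt g).zpow_right i).eq.symm
    let f : R →* DihedralGroup n :=
      e.toMonoidHom.comp ((L.subtype.comp R.subtype).codRestrict (P : Subgroup G) fun r => hRP r.2)
    have hf : Function.Injective f := e.injective.comp fun a b h => by
      have := congrArg Subtype.val h
      exact Subtype.ext (Subtype.ext this)
    refine mem_centralizer_iff.2 fun q hq => ?_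
    exact (CfsgLib.Small.commute_of_dihedral_type (P'.isPGroup'.to_le hRP) hn f hf
      ((le_sup_right : zpowers t' ≤ R) (mem_zpowers t')) ht' hgR (Nat.coprime_two_right.1 hg2) (hgt g)
      ((le_sup_left : Q ≤ R) hq)).eq.symm
  obtain ⟨N, hN, hN2, hNi⟩ := CfsgLib.Transfer.hasNormalPComplement_iff_exists.1 hP'
  have hc := CfsgLib.Transfer.isComplement'_of_not_dvd_card P' hN2 hNi
  have hNcore : N ≤ Cfsg.oddCore L := CfsgLib.Base.le_oddCore (Nat.odd_iff.2 (by omega))
  refine le_antisymm (sup_le hPL (Subgroup.map_subtype_le _)) fun l hl => ?_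
  have hmem : (⟨l, hl⟩ : L) ∈ (P' : Subgroup L) ⊔ Cfsg.oddCore L := by
    have := hc.sup_eq_top
    rw [sup_comm] at this
    exact sup_le_sup_left hNcore _ (this ▸ Subgroup.mem_top _)
  have := Subgroup.mem_map_of_mem L.subtype hmem
  rw [Subgroup.map_sup] at this
  have h0 : (P' : Subgroup L).map L.subtype ≤ (P : Subgroup G) := by
    rintro _ ⟨a, ha, rfl⟩; exact ha
  exact sup_le_sup_right h0 _ this

/-- A cyclic group has at most one involution. -/
theorem eq_of_sq_of_cyclic {C : Subgroup G} [IsCyclic C] {a t : G} (ha : a ∈ C) (htC : t ∈ C)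
    (ht : orderOf t = 2) (haa : a * a = 1) (ha1 : a ≠ 1) : a = t := by
  haveI := Fintype.ofFinite C
  by_contra hne
  have h := IsCyclic.card_pow_eq_one_le (α := C) (n := 2) (by norm_num)
  have hsub : ({1, ⟨a, ha⟩, ⟨t, htC⟩} : Finset C) ⊆
      Finset.univ.filter fun c : C => c ^ 2 = 1 := by
    intro c hc
    simp only [Finset.mem_insert, Finset.mem_singleton] at hc
    refine Finset.mem_filter.2 ⟨Finset.mem_univ _, ?_⟩
    rcases hc with rfl | rfl | rfl
    · exact one_pow 2
    · exact Subtype.ext (by simpa [_root_.sq] using haa)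
    · refine Subtype.ext ?_
      show t ^ 2 = 1
      rw [← ht, pow_orderOf_eq_one]
  have hcard : ({1, ⟨a, ha⟩, ⟨t, htC⟩} : Finset C).card = 3 := by
    rw [Finset.card_insert_of_notMem, Finset.card_pair]
    · exact fun e => hne (congrArg Subtype.val e)
    · simp only [Finset.mem_insert, Finset.mem_singleton, not_or]
      refine ⟨fun e => ha1 (congrArg Subtype.val e).symm, fun e => ?_⟩
      have : (1 : G) = t := congrArg Subtype.val e
      rw [← this, orderOf_one] at ht
      omega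
  have := (Finset.card_le_card hsub).trans h
  omega

/-- Elements outside a cyclic subgroup of index two of a dihedral group are involutions inverting
it. -/
theorem outer_of_dihedral {P : Subgroup G} (hP : IsPGroup 2 P) (d : CfsgLib.Involutions.DP P)
    {C : Subgroup G} (hCP : C ≤ P) [IsCyclic C] (hC : C.relIndex P = 2) {s : G} (hs : s ∈ P)
    (hsC : s ∉ C) : orderOf s = 2 ∧ ∀ c ∈ C, s * c * s⁻¹ = c⁻¹ := by
  haveI : Fact (Nat.Prime 2) := ⟨Nat.prime_two⟩
  have hcardC : 2 * Nat.card C = Nat.card P := by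
    have e := (C.subgroupOf P).card_mul_index
    rw [Nat.card_congr (subgroupOfEquivOfLe hCP).toEquiv, ← relIndex, hC] at e
    omega
  have hs1 : s ≠ 1 := fun e => hsC (e ▸ one_mem C)
  rw [d.card_eq] at hcardC
  by_cases hn : d.n = 1
  · -- exponent two
    have h4 : Nat.card P = 2 ^ 2 := by rw [d.card_eq, hn]; rfl
    have hcomm : ∀ a ∈ P, ∀ b ∈ P, a * b = b * a := fun a ha b hb =>
      congrArg Subtype.val (IsPGroup.commutative_of_card_eq_prime_sq h4 (⟨a, ha⟩ : P) ⟨b, hb⟩)
    have hxx : d.x * d.x = 1 := by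
      have := pow_orderOf_eq_one d.x
      rwa [d.orderOf_x, hn, pow_one, _root_.sq] at this
    have hexp : ∀ a ∈ P, a * a = 1 := fun a ha => by
      have h1 : ∀ i : ℤ, d.x ^ i * d.x ^ i = 1 := fun i => by
        rw [← (Commute.refl d.x).mul_zpow, hxx, one_zpow]
      rcases d.cover a ha with ⟨i, rfl⟩ | ⟨i, rfl⟩
      · exact h1 i
      · exact CfsgLib.Involutions.invol_mul_self (d.orderOf_r i)
    refine ⟨CfsgLib.Involutions.invol_iff.2 ⟨hexp s hs, hs1⟩, fun c hc => ?_⟩
    rw [hcomm s hs c (hCP hc), mul_inv_cancel_right]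
    exact eq_inv_of_mul_eq_one_left (hexp c (hCP hc))
  obtain ⟨⟨a, ha⟩, hgen⟩ := IsCyclic.exists_generator (α := C)
  have hord : orderOf a = 2 ^ d.n := by
    rw [← Subgroup.orderOf_mk a ha, orderOf_eq_card_of_forall_mem_zpowers hgen]
    omega
  have h4 : 4 ≤ 2 ^ d.n := by
    have := d.one_le
    calc 4 = 2 ^ 2 := rfl
      _ ≤ 2 ^ d.n := Nat.pow_le_pow_right two_pos (by omega)
  have hax : a ∈ zpowers d.x := by
    rcases d.cover a (hCP ha) with ⟨i, rfl⟩ | ⟨i, rfl⟩
    · exact zpow_mem (mem_zpowers _) i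
    · rw [show d.x ^ i * d.y = d.r i from rfl, d.orderOf_r] at hord; omega
  have hle : C ≤ zpowers d.x := fun c hc => by
    obtain ⟨i, hi⟩ := Subgroup.mem_zpowers_iff.1 (hgen ⟨c, hc⟩)
    have e : a ^ i = c := congrArg Subtype.val hi
    exact e ▸ zpow_mem hax i
  have heq : C = zpowers d.x := Subgroup.eq_of_le_of_card_ge hle
    (by rw [Nat.card_zpowers, d.orderOf_x]; omega)
  obtain ⟨i, rfl⟩ : ∃ i, s = d.r i := by
    rcases d.cover s hs with ⟨i, rfl⟩ | ⟨i, rfl⟩
    · exact absurd (heq ▸ zpow_mem (mem_zpowers _) i) hsC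
    · exact ⟨i, rfl⟩
  refine ⟨d.orderOf_r i, fun c hc => ?_⟩
  obtain ⟨j, rfl⟩ := Subgroup.mem_zpowers_iff.1 (heq ▸ hc)
  rw [d.r_mul_zpow, d.r_inv, d.r_mul_r, ← zpow_neg]
  congr 1
  ring

/-- The configuration gives the structure of Brauer, Suzuki and Wall. -/
theorem exists_psl [IsSimpleGroup G] (S : Sylow 2 G) {n : ℕ} (hn : 2 ≤ n)
    (eS : (S : Subgroup G) ≃* DihedralGroup n) {t : G} (ht : orderOf t = 2)
    (htS : t ∈ (S : Subgroup G)) (htZ : ∀ s ∈ (S : Subgroup G), s * t = t * s) (O : Subgroup G)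
    (hO : O = (Cfsg.oddCore (centralizer ({t} : Set G))).map (centralizer ({t} : Set G)).subtype)
    (ha : O ≠ ⊥ → IsCyclic ((S : Subgroup G) ⊓ centralizer (O : Set G) : Subgroup G) ∧
      ((S : Subgroup G) ⊓ centralizer (O : Set G)).relIndex (S : Subgroup G) = 2)
    (hb : ∀ s ∈ (S : Subgroup G), s ∉ centralizer (O : Set G) → ∀ y ∈ O, s * y * s⁻¹ = y⁻¹)
    (hc : ∀ Y : Subgroup G, Y ≤ O → Y ≠ ⊥ →
      normalizer (Y : Set G) ≤ centralizer ({t} : Set G)) :
    ∃ (F : Type) (_ : Field F) (_ : Fintype F), Odd (Fintype.card F) ∧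
      Nonempty (G ≃* Matrix.ProjectiveSpecialLinearGroup (Fin 2) F) := by
  haveI : Fact (Nat.Prime 2) := ⟨Nat.prime_two⟩
  haveI := Fintype.ofFinite G
  obtain ⟨d⟩ := CfsgLib.Involutions.nonempty_dp S.isPGroup' hn eS
  have hS4 : 4 ≤ Nat.card (S : Subgroup G) := by
    rw [Nat.card_congr eS.toEquiv, DihedralGroup.nat_card]; omega
  have hG : ¬ IsMulCommutative G := fun hcm => by
    haveI := hcm
    have hp : (Nat.card G).Prime := Group.is_simple_iff_prime_card.1 inferInstance
    have hd : Nat.card (S : Subgroup G) ∣ Nat.card G := card_subgroup_dvd_card _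
    rcases (Nat.dvd_prime hp).1 hd with e | e
    · omega
    · have h2 : 2 ∣ Nat.card G := ht ▸ orderOf_dvd_natCard t
      rw [← (Nat.prime_dvd_prime_iff_eq Nat.prime_two hp).1 h2] at e
      omega
  let N := centralizer ({t} : Set G)
  have hSN : (S : Subgroup G) ≤ N := fun s hs => mem_centralizer_singleton_iff.2 (htZ s hs)
  have hON : O ≤ N := hO ▸ Subgroup.map_subtype_le _
  have hNtop : (S : Subgroup G) ⊔ O = N := by
    rw [hO]; exact sup_oddCore_centralizer S (by omega) eS ht htS htZ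
  have hOodd : Odd (Nat.card O) := by
    rw [hO, CfsgLib.Base.card_map_subtype]
    exact CfsgLib.Base.odd_card_oddCore _
  have hOnorm : N ≤ normalizer (O : Set G) := by
    haveI : (Cfsg.oddCore N).Normal := Cfsg.pPrimeCore_normal 2 _
    refine fun g hg => Subgroup.mem_normalizer_iff.2 fun v => ?_
    have key : ∀ g ∈ N, ∀ v ∈ O, g * v * g⁻¹ ∈ O := fun g hg v hv => by
      rw [hO] at hv ⊢
      obtain ⟨w, hw, rfl⟩ := hv
      exact ⟨⟨g, hg⟩ * w * ⟨g, hg⟩⁻¹, Subgroup.Normal.conj_mem inferInstance w hw ⟨g, hg⟩, rfl⟩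
    refine ⟨key g hg v, fun hv => ?_⟩
    have := key g⁻¹ (inv_mem hg) _ hv
    simpa [mul_assoc] using this
  -- the cyclic part
  obtain ⟨S0, hS0le, hS0c, hS0i, htS0, hS0O, hout⟩ : ∃ S0 : Subgroup G, S0 ≤ (S : Subgroup G) ∧
      IsCyclic S0 ∧ S0.relIndex (S : Subgroup G) = 2 ∧ t ∈ S0 ∧ (∀ a ∈ S0, ∀ y ∈ O, Commute a y) ∧
      ∀ s ∈ (S : Subgroup G), s ∉ S0 → ∀ y ∈ O, s * y * s⁻¹ = y⁻¹ := by
    by_cases hO1 : O = ⊥
    · have htriv : ∀ (P : G → Prop), P 1 → ∀ y ∈ O, P y := fun P h1 y hy => by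
        rw [hO1, Subgroup.mem_bot] at hy; exact hy ▸ h1
      have hidx : ∀ a : G, a ∈ (S : Subgroup G) → 2 * orderOf a = Nat.card (S : Subgroup G) →
          (zpowers a).relIndex (S : Subgroup G) = 2 := fun a ha' e => by
        have e1 := ((zpowers a).subgroupOf (S : Subgroup G)).card_mul_index
        rw [Nat.card_congr (subgroupOfEquivOfLe (zpowers_le.2 ha')).toEquiv, Nat.card_zpowers, ← e,
          mul_comm 2] at e1
        exact Nat.eq_of_mul_eq_mul_left (orderOf_pos a) e1
      by_cases htx : t ∈ zpowers d.x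
      · exact ⟨zpowers d.x, zpowers_le.2 d.x_mem, inferInstance,
          hidx _ d.x_mem (by rw [d.orderOf_x, d.card_eq]), htx,
          fun a _ => htriv (Commute a) (Commute.one_right a),
          fun s _ _ => htriv (fun y => s * y * s⁻¹ = y⁻¹) (by simp)⟩
      · refine ⟨zpowers t, zpowers_le.2 htS, inferInstance, hidx t htS ?_, mem_zpowers t,
          fun a _ => htriv (Commute a) (Commute.one_right a),
          fun s _ _ => htriv (fun y => s * y * s⁻¹ = y⁻¹) (by simp)⟩
        obtain ⟨i, rfl⟩ : ∃ i, t = d.r i := by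
          rcases d.cover t htS with ⟨i, rfl⟩ | ⟨i, rfl⟩
          · exact absurd (zpow_mem (mem_zpowers _) i) htx
          · exact ⟨i, rfl⟩
        have hcom : Commute (d.x ^ (1 : ℤ)) (d.r i) := by
          rw [zpow_one]; exact htZ _ d.x_mem
        have hdvd := d.commute_zpow_r hcom
        rw [d.orderOf_r, d.card_eq]
        have hhalf : d.half = 1 := Int.eq_one_of_dvd_one d.half_pos.le hdvd
        have hn1 : d.n - 1 = 0 := by
          by_contra hne
          have h2 : (2 : ℤ) ≤ 2 ^ (d.n - 1) := le_self_pow₀ one_le_two hne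
          have h3 : (2 : ℤ) ^ (d.n - 1) = 1 := hhalf
          omega
        rw [show d.n = 1 by have := d.one_le; omega]
        rfl
    · obtain ⟨h1, h2⟩ := ha hO1
      refine ⟨(S : Subgroup G) ⊓ centralizer (O : Set G), inf_le_left, h1, h2, ⟨htS, ?_⟩, ?_, ?_⟩
      · exact mem_centralizer_iff.2 fun y hy => mem_centralizer_singleton_iff.1 (hON hy)
      · exact fun a ha y hy => (mem_centralizer_iff.1 ha.2 y hy).symm
      · exact fun s hs hs' => hb s hs fun hsC => hs' ⟨hs, hsC⟩
  haveI := hS0c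
  have houter := fun s hs hs' => outer_of_dihedral S.isPGroup' d hS0le hS0i (s := s) hs hs'
  obtain ⟨s0, hs0, hs0'⟩ : ∃ s ∈ (S : Subgroup G), s ∉ S0 := by
    by_contra! hall
    rw [Subgroup.relIndex_eq_one.2 hall] at hS0i
    omega
  have hOab : ∀ y ∈ O, ∀ w ∈ O, Commute y w := fun y hy w hw => by
    have h1 := hout s0 hs0 hs0' (y * w) (mul_mem hy hw)
    rw [conj_mul.symm, hout s0 hs0 hs0' y hy, hout s0 hs0 hs0' w hw, ← mul_inv_rev] at h1
    exact (inv_injective h1).symm
  have hcop : ∀ a ∈ (S : Subgroup G), a ∈ O → a = 1 := fun a haS haO => by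
    obtain ⟨k, hk⟩ := IsPGroup.iff_orderOf.1 S.isPGroup' ⟨a, haS⟩
    rw [Subgroup.orderOf_mk] at hk
    have hd : orderOf a ∣ Nat.card O := (Subgroup.orderOf_mk a haO) ▸ orderOf_dvd_natCard _
    rw [hk] at hd
    rcases k with _ | k
    · rwa [pow_zero, orderOf_eq_one_iff] at hk
    · exact absurd ((dvd_pow_self 2 k.succ_ne_zero).trans hd) (fun h => Nat.not_even_iff_odd.2 hOodd (even_iff_two_dvd.2 h))
  -- the subgroup `C`
  let C : Subgroup G :=
    { carrier := {g | ∃ a ∈ S0, ∃ o ∈ O, g = a * o}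
      one_mem' := ⟨1, one_mem _, 1, one_mem _, (mul_one 1).symm⟩
      mul_mem' := by
        rintro _ _ ⟨a, ha, o, ho, rfl⟩ ⟨b, hb, p, hp, rfl⟩
        exact ⟨a * b, mul_mem ha hb, o * p, mul_mem ho hp, by
          rw [mul_assoc, ← mul_assoc o, ← (hS0O b hb o ho).eq, mul_assoc, mul_assoc]⟩
      inv_mem' := by
        rintro _ ⟨a, ha, o, ho, rfl⟩
        exact ⟨a⁻¹, inv_mem ha, o⁻¹, inv_mem ho, by
          rw [mul_inv_rev, (hS0O _ (inv_mem ha) _ (inv_mem ho)).eq]⟩ }
  have hCN : C ≤ N := by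
    rintro _ ⟨a, ha, o, ho, rfl⟩
    exact mul_mem (hSN (hS0le ha)) (hON ho)
  have hcase : ∀ g ∈ N, g ∈ C ∨ ∃ o ∈ O, ∃ s ∈ (S : Subgroup G), s ∉ S0 ∧ g = o * s := by
    intro g hg
    rw [← hNtop] at hg
    rw [← SetLike.mem_coe, sup_comm, Subgroup.coe_mul_of_right_le_normalizer_left O (S : Subgroup G)
      (hSN.trans hOnorm)] at hg
    obtain ⟨o, ho, s, hs, rfl⟩ := Set.mem_mul.1 hg
    by_cases hs' : s ∈ S0
    · exact Or.inl ⟨s, hs', o, ho, (hS0O s hs' o ho).eq.symm⟩
    · exact Or.inr ⟨o, ho, s, hs, hs', rfl⟩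
  have hs0C : s0 ∉ C := by
    rintro ⟨a, ha', o, ho, e⟩
    have h1 : a⁻¹ * s0 = o := by rw [e, inv_mul_cancel_left]
    have h2 := hcop o (h1 ▸ mul_mem (inv_mem (hS0le ha')) hs0) ho
    rw [h2, mul_one] at e
    exact hs0' (e ▸ ha')
  have houtN : ∀ g ∈ N, g ∉ C → orderOf g = 2 := by
    intro g hg hgC
    obtain ⟨o, ho, s, hs, hs', rfl⟩ := (hcase g hg).resolve_left hgC
    obtain ⟨hs2, -⟩ := houter s hs hs'
    have hss := CfsgLib.Involutions.invol_mul_self hs2
    refine CfsgLib.Involutions.invol_iff.2 ⟨?_, fun e => hgC (e ▸ one_mem C)⟩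
    calc o * s * (o * s) = o * (s * o * s⁻¹) * (s * s) := by group
      _ = 1 := by rw [hout s hs hs' o ho, hss, mul_inv_cancel, one_mul]
  have hrel : C.relIndex N = 2 := by
    have hmul : ∀ g ∈ N, g ∉ C → g * s0 ∈ C := fun g hg hgC => by
      obtain ⟨o, ho, s, hs, hs', rfl⟩ := (hcase g hg).resolve_left hgC
      have hmem : s * s0 ∈ S0 := by
        have h2 := (Subgroup.mul_mem_iff_of_index_two hS0i (a := (⟨s, hs⟩ : (S : Subgroup G)))
          (b := ⟨s0, hs0⟩))
        simp only [Subgroup.mem_subgroupOf, Subgroup.coe_mul] at h2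
        exact h2.2 (iff_of_false hs' hs0')
      exact ⟨s * s0, hmem, o, ho, by rw [mul_assoc, (hS0O _ hmem o ho).eq]⟩
    refine Subgroup.relIndex_eq_two_iff.2 ⟨s0, hSN hs0, fun b hb' => ?_⟩
    by_cases hbC : b ∈ C
    · refine Or.inr ⟨hbC, fun h => hs0C ?_⟩
      simpa using mul_mem (inv_mem hbC) h
    · exact Or.inl ⟨hmul b hb' hbC, hbC⟩
  have hcardN : Nat.card N = 2 * Nat.card C := by
    have e := (C.subgroupOf N).card_mul_index
    rw [Nat.card_congr (subgroupOfEquivOfLe hCN).toEquiv, ← relIndex, hrel] at e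
    omega
  have htC : t ∈ C := ⟨t, htS0, 1, one_mem _, (mul_one t).symm⟩
  obtain ⟨m, hm⟩ : 2 ∣ Nat.card C := by
    rw [← ht, ← Subgroup.orderOf_mk t htC]
    exact orderOf_dvd_natCard _
  have hzu : ∀ c ∈ C, orderOf c = 2 → c = t := by
    rintro _ ⟨a, ha', o, ho, rfl⟩ h2
    obtain ⟨hcc, hc1⟩ := CfsgLib.Involutions.invol_iff.1 h2
    have e : a * o * (a * o) = (a * a) * (o * o) := by
      calc a * o * (a * o) = a * (o * a) * o := by group
        _ = a * (a * o) * o := by rw [(hS0O a ha' o ho).eq]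
        _ = (a * a) * (o * o) := by group
    rw [e] at hcc
    have hoo : o * o = 1 := hcop _ (by
      rw [eq_inv_of_mul_eq_one_right hcc]
      exact inv_mem (mul_mem (hS0le ha') (hS0le ha'))) (mul_mem ho ho)
    have ho1 : o = 1 := by
      have hd2 : orderOf o ∣ 2 := orderOf_dvd_of_pow_eq_one (by rw [_root_.sq, hoo])
      have hd : orderOf o ∣ Nat.card O := (Subgroup.orderOf_mk o ho) ▸ orderOf_dvd_natCard _
      exact orderOf_eq_one_iff.1 (Nat.eq_one_of_dvd_coprimes (Nat.coprime_two_left.2 hOodd) hd2 hd)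
    subst ho1
    rw [mul_one] at hc1 ⊢
    rw [hoo, mul_one] at hcc
    exact eq_of_sq_of_cyclic ha' htS0 ht hcc hc1
  have hcomm : ∀ a ∈ C, ∀ b ∈ C, a * b = b * a := by
    rintro _ ⟨a, ha', o, ho, rfl⟩ _ ⟨b, hb', p, hp, rfl⟩
    haveI : IsMulCommutative S0 := IsCyclic.isMulCommutative
    have hab : a * b = b * a :=
      congrArg Subtype.val (mul_comm' (⟨a, ha'⟩ : S0) ⟨b, hb'⟩)
    calc a * o * (b * p) = a * (o * b) * p := by group
      _ = (a * b) * (o * p) := by rw [← (hS0O b hb' o ho).eq]; group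
      _ = (b * a) * (p * o) := by rw [hab, (hOab o ho p hp).eq]
      _ = b * (a * p) * o := by group
      _ = b * p * (a * o) := by rw [(hS0O a ha' p hp).eq]; group
  have hcfg : CfsgLib.Small.BSW.Cfg C N t m := by
    refine ⟨?_, hm, by rw [hcardN, hm]; ring, hCN, hcomm, htC, ht, hzu, houtN, rfl, ?_, ?_⟩
    · have := Nat.card_pos (α := C); omega
    · intro g c hcC hc1 hgc
      -- a power of prime order
      obtain ⟨p, hp, hpd⟩ := Nat.exists_prime_and_dvd (fun e => hc1 (orderOf_eq_one_iff.1 e))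
      obtain ⟨k, hk⟩ : ∃ k : ℕ, orderOf (c ^ k) = p :=
        ⟨orderOf c / p, orderOf_pow_orderOf_div (orderOf_pos c).ne' hpd⟩
      have hyC : c ^ k ∈ C := pow_mem hcC k
      have hgy : g * c ^ k * g⁻¹ ∈ C := by rw [← conj_pow]; exact pow_mem hgc k
      rcases eq_or_ne p 2 with rfl | hp2
      · have h1 := hzu _ hyC hk
        have h2 := hzu _ hgy (by rw [← MulAut.conj_apply, MulEquiv.orderOf_eq, hk])
        rw [h1] at h2
        exact mem_centralizer_singleton_iff.2 (mul_inv_eq_iff_eq_mul.1 h2)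
      · have hyO : c ^ k ∈ O := by
          obtain ⟨a, ha', o, ho, e⟩ := hyC
          have hodd : Odd p := hp.odd_of_ne_two hp2
          have hp1 : (a * o) ^ p = 1 := by rw [← e, ← hk, pow_orderOf_eq_one]
          rw [(hS0O a ha' o ho).mul_pow] at hp1
          have h3 : o ^ p = 1 := hcop _ (by
            rw [eq_inv_of_mul_eq_one_right hp1]; exact inv_mem (pow_mem (hS0le ha') p)) (pow_mem ho p)
          rw [h3, mul_one] at hp1
          have := CfsgLib.Small.eq_one_of_pow_of_odd S.isPGroup' (hS0le ha') hodd hp1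
          rw [e, this, one_mul]
          exact ho
        have hy1 : c ^ k ≠ 1 := fun e => by rw [e, orderOf_one] at hk; exact hp.ne_one hk.symm
        have hle := hc (zpowers (c ^ k)) (zpowers_le.2 hyO) (zpowers_ne_bot.2 hy1)
        have ht' : Commute (g⁻¹ * t * g) (c ^ k) := by
          have h1 : Commute t (g * c ^ k * g⁻¹) := (mem_centralizer_singleton_iff.1 (hCN hgy)).symm
          have h2 := h1.map (MulAut.conj g⁻¹).toMonoidHom
          simpa [mul_assoc] using h2
        have htN : g⁻¹ * t * g ∈ N := by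
          refine hle (centralizer_le_normalizer _ (mem_centralizer_iff.2 fun w hw => ?_))
          obtain ⟨i, rfl⟩ := Subgroup.mem_zpowers_iff.1 hw
          exact (ht'.zpow_right i).eq.symm
        have hord2 : orderOf (g⁻¹ * t * g) = 2 := by
          rw [show g⁻¹ * t * g = g⁻¹ * t * g⁻¹⁻¹ by group, ← MulAut.conj_apply, MulEquiv.orderOf_eq, ht]
        have htC' : g⁻¹ * t * g ∈ C := by
          by_contra hnot
          obtain ⟨o, ho, s, hs, hs', e⟩ := (hcase _ htN).resolve_left hnot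
          have h1 : (o * s) * c ^ k * (o * s)⁻¹ = (c ^ k)⁻¹ := by
            calc (o * s) * c ^ k * (o * s)⁻¹ = o * (s * c ^ k * s⁻¹) * o⁻¹ := by group
              _ = (c ^ k)⁻¹ := by
                rw [hout s hs hs' _ hyO, (hOab o ho _ (inv_mem hyO)).eq, mul_inv_cancel_right]
          rw [← e, ht'.eq, mul_inv_cancel_right] at h1
          have h4 : (c ^ k) ^ 2 = 1 := by
            rw [_root_.sq]
            exact mul_eq_one_iff_eq_inv.2 h1
          have h5 := orderOf_dvd_of_pow_eq_one h4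
          rw [hk] at h5
          exact hp2 ((Nat.prime_dvd_prime_iff_eq hp Nat.prime_two).1 h5)
        have h2 := hzu _ htC' hord2
        refine mem_centralizer_singleton_iff.2 ?_
        calc g * t = g * (g⁻¹ * t * g) := by rw [h2]
          _ = t * g := by group
    · exact fun u hu => isConj_of_dihedral hG d ht hu
  exact exists_psl_of_conclusion hG hcfg.conclusion

end CfsgLib.CharsMore.BSWRecog
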