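import Cfsg.Agent.Lib.Small.BSW.NegStructure
import Cfsg.Agent.Lib.Perm.ZassG.PSL
import Cfsg.Agent.Lib.Small.Basic

/-!
# The simple groups in the conclusion of Brauer, Suzuki and Wall are `PSL(2, q)`

The action on the cosets of `N(Q)` is a Zassenhaus group of degree `q + 1` with kernel `Q`.
-/

set_option autoImplicit false
set_option linter.style.haveILetI false

open scoped Classical

namespace CfsgLib.CharsMore.BSWRecog

open Subgroup MulAction

variable {G : Type*} [Group G] [Finite G]

theorem exists_psl_of_conclusion [IsSimpleGroup G] (hG : ¬ IsMulCommutative G)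
    (h : CfsgLib.Small.BSW.Conclusion G) :
    ∃ (F : Type) (_ : Field F) (_ : Fintype F), Odd (Fintype.card F) ∧
      Nonempty (G ≃* Matrix.ProjectiveSpecialLinearGroup (Fin 2) F) := by
  obtain ⟨Q, D, hord, hcent, -, hD, hQD, hN, -⟩ := h
  let M := normalizer (Q : Set G)
  have hQM : Q ≤ M := Subgroup.le_normalizer
  have hDM : D ≤ M := fun d hd => (hN ▸ (le_sup_right : D ≤ Q ⊔ D) hd : d ∈ normalizer (Q : Set G))
  haveI : (Q.subgroupOf M).Normal :=
    (Subgroup.normal_subgroupOf_iff_le_normalizer hQM).2 le_rfl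
  have hcardM : Nat.card M = Nat.card D * Nat.card Q := by
    have hdisj : D.subgroupOf M ⊓ Q.subgroupOf M = ⊥ := by
      rw [eq_bot_iff]
      rintro a ⟨haD, haQ⟩
      have h1 : (a : G) ∈ Q ⊓ D := ⟨haQ, haD⟩
      rw [hQD, Subgroup.mem_bot] at h1
      exact Subtype.ext h1
    have htop : D.subgroupOf M ⊔ Q.subgroupOf M = ⊤ := by
      rw [← Subgroup.subgroupOf_sup hDM hQM, sup_comm, ← hN]
      exact Subgroup.subgroupOf_self M
    have e := CfsgLib.Base.card_sup_of_disjoint (D.subgroupOf M) (Q.subgroupOf M) hdisj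
    rw [htop, Subgroup.card_top, CfsgLib.Base.card_subgroupOf hDM,
      CfsgLib.Base.card_subgroupOf hQM] at e
    exact e
  obtain ⟨q, hq⟩ : ∃ q, q = Nat.card Q := ⟨_, rfl⟩
  rw [← hq] at hord hD hcardM
  have hq3 : 3 ≤ q := by have := Nat.card_pos (α := D); omega
  have hidx : M.index = q + 1 := by
    have e := M.card_mul_index
    rw [hcardM] at e
    have e2 : q * (Nat.card D * 2) * M.index = q * (Nat.card D * 2) * (q + 1) := by
      calc q * (Nat.card D * 2) * M.index = 2 * (Nat.card D * q * M.index) := by ring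
        _ = q * (q + 1) * (q - 1) := by rw [e, hord]
        _ = q * (Nat.card D * 2) * (q + 1) := by rw [show q - 1 = Nat.card D * 2 by omega]; ring
    exact Nat.eq_of_mul_eq_mul_left (by have := Nat.card_pos (α := D); positivity) e2
  have hMtop : M ≠ ⊤ := fun e => by rw [e, Subgroup.index_top] at hidx; omega
  -- `Q` is semiregular outside the point `a`
  let a : G ⧸ M := ((1 : G) : G ⧸ M)
  have hfix : ∀ u ∈ Q, u ≠ 1 → ∀ p : G ⧸ M, u • p = p → p = a := by
    intro u hu hu1 p hp
    induction p using Quotient.inductionOn' with | _ g =>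
    have hgM : g⁻¹ * u * g ∈ M := by
      have h1 : ((u * g : G) : G ⧸ M) = (g : G ⧸ M) := hp
      rw [QuotientGroup.eq] at h1
      have := inv_mem h1
      rwa [mul_inv_rev, inv_inv, ← mul_assoc] at this
    -- elements of order dividing `q` of `M` lie in `Q`
    have hgQ : g⁻¹ * u * g ∈ Q := by
      have hd1 : orderOf (⟨_, hgM⟩ : M) ∣ q := by
        rw [Subgroup.orderOf_mk, show g⁻¹ * u * g = g⁻¹ * u * g⁻¹⁻¹ by group, ← MulAut.conj_apply,
          MulEquiv.orderOf_eq, ← Subgroup.orderOf_mk u hu, hq]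
        exact orderOf_dvd_natCard _
      have hcq : Nat.card (M ⧸ Q.subgroupOf M) = Nat.card D := by
        have e := CfsgLib.Base.card_mul_card_quotient (Q.subgroupOf M)
        rw [CfsgLib.Base.card_subgroupOf hQM, hcardM, ← hq, mul_comm (Nat.card D) q] at e
        exact Nat.eq_of_mul_eq_mul_left (by omega) e
      have hd2 : orderOf (QuotientGroup.mk' (Q.subgroupOf M) ⟨_, hgM⟩) ∣ Nat.card D :=
        hcq ▸ orderOf_dvd_natCard _
      have hd3 := (orderOf_map_dvd (QuotientGroup.mk' (Q.subgroupOf M)) ⟨_, hgM⟩).trans hd1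
      have hcop : Nat.Coprime q (Nat.card D) := by
        rw [← hD, Nat.coprime_mul_right_add_left]
        exact Nat.coprime_one_left _
      exact Subgroup.mem_subgroupOf.1 ((QuotientGroup.eq_one_iff _).1
        (orderOf_eq_one_iff.1 (Nat.eq_one_of_dvd_coprimes hcop hd3 hd2)))
    have hne : g⁻¹ * u * g ≠ 1 := fun e => hu1 (by
      have := congrArg (fun w => g * w * g⁻¹) e
      simpa [mul_assoc] using this)
    -- so `g` normalizes `Q`
    have hmap : Q.map (MulAut.conj g⁻¹).toMonoidHom = Q := by
      ext v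
      constructor
      · rintro ⟨w, hw, rfl⟩
        rw [← hcent _ hgQ hne, mem_centralizer_singleton_iff]
        have hc : w * u = u * w := by
          have : w ∈ centralizer ({u} : Set G) := by rw [hcent u hu hu1]; exact hw
          exact mem_centralizer_singleton_iff.1 this
        simp only [MulEquiv.coe_toMonoidHom, MulAut.conj_apply, inv_inv]
        calc g⁻¹ * w * g * (g⁻¹ * u * g) = g⁻¹ * (w * u) * g := by group
          _ = g⁻¹ * (u * w) * g := by rw [hc]
          _ = g⁻¹ * u * g * (g⁻¹ * w * g) := by group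
      · intro hv
        refine ⟨g * v * g⁻¹, ?_, by simp [mul_assoc]⟩
        rw [SetLike.mem_coe, ← hcent u hu hu1, mem_centralizer_singleton_iff]
        have hc : v * (g⁻¹ * u * g) = g⁻¹ * u * g * v := by
          have : v ∈ centralizer ({g⁻¹ * u * g} : Set G) := by rw [hcent _ hgQ hne]; exact hv
          exact mem_centralizer_singleton_iff.1 this
        calc g * v * g⁻¹ * u = g * (v * (g⁻¹ * u * g)) * g⁻¹ := by group
          _ = g * (g⁻¹ * u * g * v) * g⁻¹ := by rw [hc]
          _ = u * (g * v * g⁻¹) := by group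
    have hgN : g ∈ M := by
      refine Subgroup.mem_normalizer_iff.2 fun v => ⟨fun hv => ?_, fun hv => ?_⟩
      · rw [← hmap] at hv
        obtain ⟨w, hw, rfl⟩ := hv
        simpa [mul_assoc] using hw
      · rw [← hmap]
        exact ⟨_, hv, by simp [mul_assoc]⟩
    show ((g : G) : G ⧸ M) = ((1 : G) : G ⧸ M)
    rw [QuotientGroup.eq]
    simpa using hgN
  have hQa : ∀ u ∈ Q, u • a = a := fun u hu => by
    show ((u * 1 : G) : G ⧸ M) = ((1 : G) : G ⧸ M)
    rw [QuotientGroup.eq]
    simpa using hQM hu
  -- `Q` is regular on the other points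
  have hreg : ∀ y z : G ⧸ M, y ≠ a → z ≠ a → ∃! u : Q, (u : G) • y = z := by
    intro y z hy hz
    have hne : ∀ u : Q, (u : G) • y ≠ a := fun u e => hy (by
      rw [eq_inv_smul_iff.2 e]
      exact hQa _ (inv_mem u.2))
    let f : Q → {p : G ⧸ M // p ≠ a} := fun u => ⟨(u : G) • y, hne u⟩
    have hinj : Function.Injective f := fun u v e => by
      have e' : (u : G) • y = (v : G) • y := congrArg Subtype.val e
      by_contra hne'
      refine hy (hfix ((v : G)⁻¹ * u) (mul_mem (inv_mem v.2) u.2) (fun e2 => hne' (Subtype.ext ?_)) y ?_)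
      · exact (inv_mul_eq_one.1 e2).symm
      · rw [mul_smul, e', inv_smul_smul]
    have hcard : Nat.card {p : G ⧸ M // p ≠ a} ≤ Nat.card Q := by
      haveI := Fintype.ofFinite (G ⧸ M)
      have hx : Fintype.card (G ⧸ M) = q + 1 := by
        rw [← Nat.card_eq_fintype_card, ← Subgroup.index_eq_card, hidx]
      rw [Nat.card_eq_fintype_card, Fintype.card_subtype_compl, Fintype.card_subtype_eq, hx, ← hq]
      omega
    obtain ⟨u, hu⟩ := (hinj.bijective_of_nat_card_le hcard).2 ⟨z, hz⟩
    exact ⟨u, congrArg Subtype.val hu, fun v hv =>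
      hinj (Subtype.ext (hv.trans (congrArg Subtype.val hu).symm))⟩
  haveI : Finite (G ⧸ M) := inferInstance
  obtain ⟨b, hb⟩ : ∃ b : G ⧸ M, b ≠ a := by
    haveI : Nontrivial (G ⧸ M) := by
      rw [← Finite.one_lt_card_iff_nontrivial, ← Subgroup.index_eq_card, hidx]; omega
    exact exists_ne a
  have hstab : stabilizer G a = M := by
    ext g
    rw [mem_stabilizer_iff]
    show ((g * 1 : G) : G ⧸ M) = ((1 : G) : G ⧸ M) ↔ _
    rw [QuotientGroup.eq]
    simp
  have hZ : Cfsg.IsZassenhausGroup G (G ⧸ M) := by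
    refine ⟨⟨fun {g k} e => ?_⟩, is_two_pretransitive_iff.2 fun {c d e f} hcd hef => ?_, ?_, ?_, ?_⟩
    · exact CfsgLib.Small.toPermHom_injective hMtop (Equiv.ext e)
    · obtain ⟨g, hg⟩ := exists_smul_eq G c a
      obtain ⟨k, hk⟩ := exists_smul_eq G e a
      obtain ⟨u, hu, -⟩ := hreg (g • d) (k • f) (fun e' => hcd (smul_left_cancel g (hg.trans e'.symm)))
        (fun e' => hef (smul_left_cancel k (hk.trans e'.symm)))
      refine ⟨k⁻¹ * u * g, ?_, ?_⟩
      · rw [mul_smul, mul_smul, hg, hQa _ u.2, inv_smul_eq_iff, hk]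
      · rw [mul_smul, mul_smul, hu, inv_smul_smul]
    · intro g c d e hcd hde hce hgc hgd hge
      obtain ⟨k, hk⟩ := exists_smul_eq G c a
      have hd' : k • d ≠ a := fun e' => hcd (smul_left_cancel k (hk.trans e'.symm))
      have he' : k • e ≠ a := fun e' => hce (smul_left_cancel k (hk.trans e'.symm))
      obtain ⟨u, hu, -⟩ := hreg (k • d) (k • e) hd' he'
      set γ := k * g * k⁻¹ with hγ
      have hγa : γ • a = a := by rw [hγ, ← hk, mul_smul, inv_smul_smul, mul_smul, hgc]
      have hγd : γ • k • d = k • d := by rw [hγ, mul_smul, inv_smul_smul, mul_smul, hgd]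
      have hγe : γ • k • e = k • e := by rw [hγ, mul_smul, inv_smul_smul, mul_smul, hge]
      have hγM : γ ∈ M := hstab ▸ (mem_stabilizer_iff.2 hγa)
      have hcomm : γ * (u : G) * γ⁻¹ * (u : G)⁻¹ = 1 := by
        by_contra hne
        refine he' (hfix _ (mul_mem ((Subgroup.mem_normalizer_iff.1 hγM _).1 u.2) (inv_mem u.2)) hne _ ?_)
        rw [mul_smul, ← hu, inv_smul_smul, mul_smul, mul_smul,
          show γ⁻¹ • k • d = k • d by rw [inv_smul_eq_iff, hγd], hu, hγe]
      have hu1 : (u : G) ≠ 1 := fun e' => hde (smul_left_cancel k (by rw [e', one_smul] at hu; exact hu))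
      have hγQ : γ ∈ Q := by
        rw [← hcent _ u.2 hu1, mem_centralizer_singleton_iff]
        exact mul_inv_eq_iff_eq_mul.1 (mul_inv_eq_one.1 hcomm)
      have hγ1 : γ = 1 := by
        by_contra hne
        exact hd' (hfix γ hγQ hne _ hγd)
      rw [hγ] at hγ1
      exact conj_eq_one_iff.1 hγ1
    · have hle : Nat.card D = 1 → False := fun e => by
        have h12 : Nat.card G = 12 := by
          rw [e] at hD
          rw [show q = 3 by omega] at hord
          omega
        exact CfsgLib.Small.ne_twelve hG h12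
      obtain ⟨g, hg⟩ : ∃ g ∈ stabilizer G a ⊓ stabilizer G b, g ≠ 1 := by
        by_contra! hall
        have hbot : stabilizer G a ⊓ stabilizer G b = ⊥ := (Subgroup.eq_bot_iff_forall _).2 hall
        -- the orbit of `b` under `M` is too small
        let f : M → {p : G ⧸ M // p ≠ a} := fun g => ⟨(g : G) • b, fun e => hb (by
          rw [eq_inv_smul_iff.2 e]
          exact (hstab.ge (inv_mem g.2)))⟩
        have hinj : Function.Injective f := fun g k e => by
          have e' : (g : G) • b = (k : G) • b := congrArg Subtype.val e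
          have hmem : (k : G)⁻¹ * g ∈ stabilizer G a ⊓ stabilizer G b :=
            ⟨hstab.ge (mul_mem (inv_mem k.2) g.2), by
              show _ • b = b; rw [ mul_smul, e', inv_smul_smul]⟩
          rw [hbot, Subgroup.mem_bot] at hmem
          exact Subtype.ext (inv_mul_eq_one.1 hmem).symm
        have hc := Nat.card_le_card_of_injective f hinj
        haveI := Fintype.ofFinite (G ⧸ M)
        have hx : Fintype.card (G ⧸ M) = q + 1 := by
          rw [← Nat.card_eq_fintype_card, ← Subgroup.index_eq_card, hidx]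
        rw [hcardM, Nat.card_eq_fintype_card (α := {p : G ⧸ M // p ≠ a}), Fintype.card_subtype_compl,
          Fintype.card_subtype_eq, hx] at hc
        have hD0 := Nat.card_pos (α := D)
        have : Nat.card D * q ≤ 1 * q := by omega
        exact hle (le_antisymm (Nat.le_of_mul_le_mul_right this (by omega)) hD0)
      exact ⟨g, hg.2, a, b, hb.symm, hg.1.1, hg.1.2⟩
    · intro N hN' htrans
      rcases hN'.eq_bot_or_eq_top with e | e
      · exfalso
        obtain ⟨⟨m, hm⟩, hm'⟩ := htrans.exists_smul_eq a b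
        rw [e, Subgroup.mem_bot] at hm
        exact hb (by
          have : (m : G) • a = b := hm'
          rw [hm, one_smul] at this
          exact this.symm)
      · refine ⟨a, fun hbot => ?_⟩
        obtain ⟨u, hu, hu1⟩ : ∃ u ∈ Q, u ≠ 1 := by
          by_contra! hall
          have := Subgroup.card_eq_one.2 ((Subgroup.eq_bot_iff_forall _).2 hall)
          omega
        have hmem : (⟨u, e ▸ Subgroup.mem_top u⟩ : N) ∈ stabilizer N a := hQa u hu
        exact hu1 (congrArg Subtype.val (Subgroup.mem_bot.1 (hbot.le hmem)))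
  have hF : CfsgLib.Perm.ZassG.IsKernel a Q := by
    refine ⟨hQM.trans hstab.ge, fun g hg u hu => ?_, hreg⟩
    exact (Subgroup.mem_normalizer_iff.1 (hstab.le hg : g ∈ M) u).1 hu
  have hpair : Nat.card (CfsgLib.Perm.ZassG.pairStab G a b) = Nat.card D := by
    haveI := hZ.1
    -- orbit-stabilizer inside `M`
    let P := stabilizer G a ⊓ stabilizer G b
    have hPM : P ≤ M := inf_le_left.trans hstab.le
    let f : P × Q → M := fun z => ⟨(z.2 : G) * z.1, mul_mem (hQM z.2.2) (hPM z.1.2)⟩
    have hbij : Function.Bijective f := by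
      refine ⟨fun z w e => ?_, fun g => ?_⟩
      · have e' : (z.2 : G) * z.1 = (w.2 : G) * w.1 := congrArg Subtype.val e
        have hb' : (z.2 : G) • b = (w.2 : G) • b := by
          have := congrArg (fun γ => γ • b) e'
          rwa [mul_smul, mul_smul, mem_stabilizer_iff.1 z.1.2.2, mem_stabilizer_iff.1 w.1.2.2] at this
        have h2 : z.2 = w.2 := (hreg b _ hb (fun e2 => hb (by
          rw [eq_inv_smul_iff.2 e2]; exact hQa _ (inv_mem w.2.2)))).unique hb' rfl
        refine Prod.ext (Subtype.ext ?_) h2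
        rw [h2] at e'
        exact mul_left_cancel e'
      · have hga : (g : G) • a = a := mem_stabilizer_iff.1 (hstab.ge g.2)
        obtain ⟨u, hu, -⟩ := hreg b ((g : G) • b) hb (fun e2 => hb (by
          rw [eq_inv_smul_iff.2 e2]; exact hstab.ge (inv_mem g.2)))
        refine ⟨(⟨(u : G)⁻¹ * g, ?_, ?_⟩, u), Subtype.ext (mul_inv_cancel_left _ _)⟩
        · show _ • a = a
          rw [mul_smul, hga, hQa _ (inv_mem u.2)]
        · show _ • b = b; rw [ mul_smul, ← hu, inv_smul_smul]
    have e := Nat.card_congr (Equiv.ofBijective f hbij)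
    rw [Nat.card_prod, hcardM, ← hq] at e
    exact Nat.eq_of_mul_eq_mul_right (by omega) e
  obtain ⟨K, hKf, hKt, -, hcard, hiso⟩ := CfsgLib.Perm.ZassG.exists_psl hZ hb.symm hF
    (by rw [hpair, ← hq]; omega)
  refine ⟨K, hKf, hKt, ?_, hiso⟩
  rw [← Nat.card_eq_fintype_card, hcard, ← hq, Nat.odd_iff]
  omega

end CfsgLib.CharsMore.BSWRecog
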